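import Mathlib

set_option autoImplicit false
set_option backward.isDefEq.respectTransparency false
universe u
open TensorProduct

namespace Groth.Agent.FlatQF

lemma exists_dvd_all {V : Type*} [CommRing V] [IsDomain V] [ValuationRing V] {ι : Type*}
    (s : Finset ι) (hs : s.Nonempty) (x : ι → V) : ∃ i₀ ∈ s, ∀ i ∈ s, x i₀ ∣ x i := by
  classical
  induction hs using Finset.Nonempty.cons_induction with
  | singleton a => exact ⟨a, Finset.mem_singleton_self a, fun i hi => by rw [Finset.mem_singleton.1 hi]⟩
  | cons a t ha ht ih =>
    obtain ⟨j, hj, hdiv⟩ := ih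
    rcases ValuationRing.dvd_total (x a) (x j) with h | h
    · refine ⟨a, Finset.mem_cons_self a t, fun i hi => ?_⟩
      rcases Finset.mem_cons.1 hi with rfl | hi
      · exact dvd_rfl
      · exact h.trans (hdiv i hi)
    · refine ⟨j, Finset.mem_cons.2 (Or.inr hj), fun i hi => ?_⟩
      rcases Finset.mem_cons.1 hi with rfl | hi
      · exact h
      · exact hdiv i hi

variable {R : Type u} [CommRing R] [IsDedekindDomain R] {S : Type u} [CommRing S] [Algebra R S]
  [Module.Flat R S]

/-- Elements of a torsion-free module over a Dedekind domain whose images in a fibre are linearly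
independent are linearly independent. -/
lemma linearIndependent_of_fiber (P : Ideal R) [P.IsPrime] {m : ℕ} (s : Fin m → S)
    (h : LinearIndependent P.ResidueField (fun i => (1 : P.ResidueField) ⊗ₜ[R] s i)) :
    LinearIndependent R s := by
  classical
  haveI : IsDedekindDomain (Localization.AtPrime P) :=
    IsLocalization.AtPrime.isDedekindDomain R P (Localization.AtPrime P)
  haveI : IsPrincipalIdealRing (Localization.AtPrime P) :=
    IsPrincipalIdealRing.of_finite_maximals <| by
      refine (Set.finite_singleton (IsLocalRing.maximalIdeal (Localization.AtPrime P))).subset ?_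
      intro I hI
      exact IsLocalRing.eq_maximalIdeal hI
  haveI : ValuationRing (Localization.AtPrime P) :=
    ValuationRing.iff_local_bezout_domain.2 ⟨inferInstance, inferInstance⟩
  rw [Fintype.linearIndependent_iff]
  intro r hr
  by_contra hne
  push_neg at hne
  obtain ⟨j, hj⟩ := hne
  let x : Fin m → Localization.AtPrime P := fun i => algebraMap R _ (r i)
  obtain ⟨i₀, -, hi₀⟩ := exists_dvd_all (Finset.univ : Finset (Fin m)) ⟨j, Finset.mem_univ j⟩ x
  choose e he using fun i => hi₀ i (Finset.mem_univ i)
  have hinj : Function.Injective (algebraMap R (Localization.AtPrime P)) :=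
    IsLocalization.injective _ P.primeCompl_le_nonZeroDivisors
  have hx0 : r i₀ ≠ 0 := by
    intro h0
    apply hj
    apply hinj
    show x j = _
    rw [he j, show x i₀ = 0 by simp [x, h0], zero_mul, map_zero]
  obtain ⟨b, hb⟩ := IsLocalization.exist_integer_multiples P.primeCompl
    (Finset.univ : Finset (Fin m)) e
  choose d hd using fun i => hb i (Finset.mem_univ i)
  have hbr : ∀ i, (b : R) * r i = d i * r i₀ := by
    intro i
    apply hinj
    rw [map_mul, map_mul, hd i]
    show _ * x i = _
    rw [he i, Algebra.smul_def]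
    ring
  have hsum : ∑ i, d i • s i = 0 := by
    apply (Module.Flat.isSMulRegular_of_nonZeroDivisors (R := R) (M := S)
      (mem_nonZeroDivisors_of_ne_zero hx0))
    show r i₀ • ∑ i, d i • s i = r i₀ • (0 : S)
    rw [smul_zero, Finset.smul_sum]
    calc ∑ i, r i₀ • d i • s i = ∑ i, (b : R) • (r i • s i) := by
          refine Finset.sum_congr rfl fun i _ => ?_
          rw [smul_smul, smul_smul, hbr i, mul_comm]
      _ = 0 := by rw [← Finset.smul_sum, hr, smul_zero]
  have hd0 : d i₀ = b := by
    have h1 := hbr i₀
    exact (mul_right_cancel₀ hx0 h1).symm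
  have h2 : ∑ i, algebraMap R P.ResidueField (d i) • ((1 : P.ResidueField) ⊗ₜ[R] s i) = 0 := by
    simp only [algebraMap_smul, ← tmul_smul, ← tmul_sum, hsum, tmul_zero]
  have h3 := Fintype.linearIndependent_iff.1 h _ h2 i₀
  rw [hd0, Ideal.algebraMap_residueField_eq_zero] at h3
  exact b.2 h3

/-- A flat algebra over a Dedekind domain with finite generic fibre is quasi-finite. -/
lemma quasiFinite_of_finite_generic (K : Type u) [Field K] [Algebra R K] [IsFractionRing R K]
    (hfin : Module.Finite K (K ⊗[R] S)) : Algebra.QuasiFinite R S := by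
  classical
  haveI := hfin
  refine ⟨fun P hP => ?_⟩
  let g : S → P.Fiber S := fun s => (1 : P.ResidueField) ⊗ₜ[R] s
  have hspan : Submodule.span P.ResidueField (Set.range g) = ⊤ := by
    refine eq_top_iff.2 fun z _ => ?_
    induction z using TensorProduct.induction_on with
    | zero => exact zero_mem _
    | tmul a s =>
      have : a ⊗ₜ[R] s = a • g s := by
        simp only [g, TensorProduct.smul_tmul', smul_eq_mul, mul_one]
      rw [this]
      exact Submodule.smul_mem _ _ (Submodule.subset_span ⟨s, rfl⟩)
    | add z w hz hw => exact add_mem (hz trivial) (hw trivial)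
  obtain ⟨B, hB, hBspan, hBli⟩ := exists_linearIndependent P.ResidueField (Set.range g)
  by_contra hinf
  have hBinf : B.Infinite := fun hBf =>
    hinf (Module.finite_def.2 ⟨hBf.toFinset, by rw [hBf.coe_toFinset, hBspan, hspan]⟩)
  obtain ⟨t, htB, htc⟩ := hBinf.exists_subset_card_eq (Module.finrank K (K ⊗[R] S) + 1)
  let e : Fin (Module.finrank K (K ⊗[R] S) + 1) ≃ t := (t.equivFinOfCardEq htc).symm
  have hmem : ∀ i, ∃ s, g s = ((e i : t) : P.Fiber S) := fun i => hB (htB (e i).2)
  choose s hs using hmem
  have hli : LinearIndependent P.ResidueField (fun i => (1 : P.ResidueField) ⊗ₜ[R] s i) := by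
    have h1 := hBli.comp (fun i => (⟨(e i : t), htB (e i).2⟩ : B)) (fun i j hij => by
      apply e.injective
      exact Subtype.ext (congrArg Subtype.val hij :))
    have he' : (fun i => g (s i)) = fun i => ((e i : t) : P.Fiber S) := funext hs
    show LinearIndependent P.ResidueField (fun i => g (s i))
    rw [he']
    exact h1
  have hliR := linearIndependent_of_fiber P s hli
  have hliK : LinearIndependent K (fun i => (1 : K) ⊗ₜ[R] s i) := by
    rw [Fintype.linearIndependent_iff]
    intro k hk j
    obtain ⟨b, hb⟩ := IsLocalization.exist_integer_multiples (nonZeroDivisors R) Finset.univ k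
    choose a ha using fun i => hb i (Finset.mem_univ i)
    have h1 : (1 : K) ⊗ₜ[R] (∑ i, a i • s i) = (1 : K) ⊗ₜ[R] (0 : S) := by
      rw [tmul_zero, tmul_sum]
      calc ∑ i, (1 : K) ⊗ₜ[R] (a i • s i) = (b : R) • ∑ i, k i • ((1 : K) ⊗ₜ[R] s i) := by
            rw [Finset.smul_sum]
            refine Finset.sum_congr rfl fun i _ => ?_
            rw [tmul_smul, ← algebraMap_smul K (a i), ha i, smul_assoc]
        _ = 0 := by rw [hk, smul_zero]
    have h2 : ∑ i, a i • s i = 0 :=
      Algebra.TensorProduct.includeRight_injective (IsFractionRing.injective R K) h1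
    have h3 := Fintype.linearIndependent_iff.1 hliR a h2 j
    have h4 := ha j
    rw [h3, map_zero, Algebra.smul_def] at h4
    refine (mul_eq_zero.1 h4.symm).resolve_left ?_
    exact fun hb0 => nonZeroDivisors.ne_zero b.2 (IsFractionRing.injective R K (hb0.trans (map_zero _).symm))
  have := hliK.fintype_card_le_finrank
  simp at this

end Groth.Agent.FlatQF
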