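import Groth.Agent.FlatQF.Basic
import Groth.Prelude.Def_Neron
import Mathlib

set_option autoImplicit false
set_option backward.isDefEq.respectTransparency false
universe u
open CategoryTheory CategoryTheory.Limits AlgebraicGeometry TensorProduct

namespace Groth.Agent.FlatQF

lemma locallyQuasiFinite_spec (R : Type u) [CommRing R] [IsDedekindDomain R] (A : CommRingCat.{u})
    (φ : CommRingCat.of R ⟶ A) [hg : Flat (Spec.map φ)]
    [h1 : LocallyQuasiFinite (pullback.snd (Spec.map φ) (Neron.genPt R))] :
    LocallyQuasiFinite (Spec.map φ) := by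
  letI : Algebra R A := φ.hom.toAlgebra
  haveI : Module.Flat R A := (HasRingHomProperty.Spec_iff (P := @Flat)).1 hg
  rw [HasRingHomProperty.Spec_iff (P := @LocallyQuasiFinite)]
  have hφ : φ = CommRingCat.ofHom (algebraMap R A) := rfl
  rw [hφ] at h1 ⊢
  refine quasiFinite_of_finite_generic (S := A) (FractionRing R) ?_
  haveI h2 : LocallyQuasiFinite
      (Spec.map (CommRingCat.ofHom (algebraMap (FractionRing R) (FractionRing R ⊗[R] A)))) := by
    have e : Spec.map (CommRingCat.ofHom (algebraMap (FractionRing R) (FractionRing R ⊗[R] A))) =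
        (pullbackSpecIso R (FractionRing R) A).inv ≫ (pullbackSymmetry _ _).hom ≫
          pullback.snd (Spec.map (CommRingCat.ofHom (algebraMap R A))) (Neron.genPt R) := by
      rw [pullbackSymmetry_hom_comp_snd, pullbackSpecIso_inv_fst]
      rfl
    rw [e]
    haveI := h1
    infer_instance
  have h3 := (HasRingHomProperty.Spec_iff (P := @LocallyQuasiFinite)).1 h2
  haveI : Algebra.QuasiFinite (FractionRing R) (FractionRing R ⊗[R] A) :=
    RingHom.quasiFinite_algebraMap.1 h3
  exact Module.Finite.of_quasiFinite

end Groth.Agent.FlatQF
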